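import Mathlib.RepresentationTheory.Basic
import Mathlib.LinearAlgebra.TensorProduct.Basis
import Mathlib.LinearAlgebra.FiniteDimensional.Basic
import Mathlib.Algebra.Field.ZMod

/-!
Symmetric tensors versus alternating tensors over `ZMod 2`, in coordinates.
-/

universe v w

open scoped TensorProduct

namespace Groth.Agent.SymSq25

lemma z2 : ∀ a : ZMod 2, a = 0 ∨ a = 1 := by decide

lemma swap4 : ∀ a b c d : ZMod 2, a + c = b + d → a + b = c + d := by decide

variable {V : Type v} [AddCommGroup V] [Module (ZMod 2) V]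

/-- the span of the squares -/
def sq (V : Type v) [AddCommGroup V] [Module (ZMod 2) V] : Submodule (ZMod 2) (V ⊗[ZMod 2] V) :=
  Submodule.span (ZMod 2) (Set.range fun v : V => v ⊗ₜ[ZMod 2] v)

/-- the span of the symmetrised tensors -/
def sym (V : Type v) [AddCommGroup V] [Module (ZMod 2) V] : Submodule (ZMod 2) (V ⊗[ZMod 2] V) :=
  Submodule.span (ZMod 2) (Set.range fun p : V × V => p.1 ⊗ₜ[ZMod 2] p.2 + p.2 ⊗ₜ[ZMod 2] p.1)

variable {ι : Type w} (b : Module.Basis ι (ZMod 2) V)

/-- coordinates -/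
noncomputable def co (i j : ι) : V ⊗[ZMod 2] V →ₗ[ZMod 2] ZMod 2 := (b.tensorProduct b).coord (i, j)

lemma co_tmul (i j : ι) (x y : V) : co b i j (x ⊗ₜ y) = b.repr x i * b.repr y j := by
  simp [co, Module.Basis.tensorProduct_repr_tmul_apply, mul_comm]

lemma ext_co {t s : V ⊗[ZMod 2] V} (h : ∀ i j, co b i j t = co b i j s) : t = s :=
  (b.tensorProduct b).repr.injective (Finsupp.ext fun p => h p.1 p.2)

lemma co_symm_of_mem_sq {t : V ⊗[ZMod 2] V} (ht : t ∈ sq V) (i j : ι) : co b i j t = co b j i t := by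
  induction ht using Submodule.span_induction with
  | mem x hx =>
    obtain ⟨v, rfl⟩ := hx
    simp only [co_tmul, mul_comm]
  | zero => simp
  | add x y _ _ hx hy => simp [hx, hy]
  | smul c x _ hx => simp [hx]

lemma sym_le_sq : sym V ≤ sq V := by
  rw [sym, Submodule.span_le]
  rintro _ ⟨⟨x, y⟩, rfl⟩
  have h : x ⊗ₜ[ZMod 2] y + y ⊗ₜ[ZMod 2] x =
      (x + y) ⊗ₜ[ZMod 2] (x + y) - x ⊗ₜ[ZMod 2] x - y ⊗ₜ[ZMod 2] y := by
    simp only [TensorProduct.add_tmul, TensorProduct.tmul_add]
    abel
  show _ ∈ sq V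
  simp only
  rw [h]
  exact sub_mem (sub_mem (Submodule.subset_span ⟨_, rfl⟩) (Submodule.subset_span ⟨_, rfl⟩))
    (Submodule.subset_span ⟨_, rfl⟩)

lemma co_diag_of_mem_sym {t : V ⊗[ZMod 2] V} (ht : t ∈ sym V) (i : ι) : co b i i t = 0 := by
  induction ht using Submodule.span_induction with
  | mem x hx =>
    obtain ⟨⟨x, y⟩, rfl⟩ := hx
    simp only [map_add, co_tmul, mul_comm (b.repr y i)]
    exact CharTwo.add_self_eq_zero _
  | zero => simp
  | add x y _ _ hx hy => simp [hx, hy]
  | smul c x _ hx => simp [hx]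

lemma mem_sq_of_symm {t : V ⊗[ZMod 2] V} (ht : ∀ i j, co b i j t = co b j i t) :
    t ∈ sq V ∧ ((∀ i, co b i i t = 0) → t ∈ sym V) := by
  classical
  -- by induction on the support
  suffices key : ∀ (n : ℕ) (t : V ⊗[ZMod 2] V), ((b.tensorProduct b).repr t).support.card ≤ n →
      (∀ i j, co b i j t = co b j i t) →
        t ∈ sq V ∧ ((∀ i, co b i i t = 0) → t ∈ sym V) from key _ t le_rfl ht
  intro n
  induction n with
  | zero =>
    intro t hn _
    have : t = 0 := by
      apply (b.tensorProduct b).repr.injective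
      rw [map_zero, ← Finsupp.support_eq_empty, ← Finset.card_eq_zero]
      omega
    subst this
    exact ⟨Submodule.zero_mem _, fun _ => Submodule.zero_mem _⟩
  | succ n ih =>
    intro t hn hs
    by_cases h0 : ((b.tensorProduct b).repr t).support = ∅
    · exact ih t (by rw [h0]; simp) hs
    obtain ⟨⟨i, j⟩, hij⟩ := Finset.nonempty_iff_ne_empty.2 h0
    rw [Finsupp.mem_support_iff] at hij
    have hone : co b i j t = 1 := (z2 (co b i j t)).resolve_left hij
    set s : V ⊗[ZMod 2] V :=
      if i = j then b i ⊗ₜ b i else b i ⊗ₜ b j + b j ⊗ₜ b i with hs'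
    have hco : ∀ k l, co b k l s = if (k, l) = (i, j) ∨ (k, l) = (j, i) then 1 else 0 := by
      intro k l
      by_cases h : i = j
      · subst h
        simp only [hs', if_true, co_tmul, b.repr_self, Finsupp.single_apply, Prod.mk.injEq]
        split_ifs <;> grind
      · simp only [hs', if_neg h, map_add, co_tmul, b.repr_self, Finsupp.single_apply, Prod.mk.injEq]
        split_ifs <;> grind
    have hsub : ((b.tensorProduct b).repr (t - s)).support.card ≤ n := by
      have : ((b.tensorProduct b).repr (t - s)).support ⊆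
          (((b.tensorProduct b).repr t).support).erase (i, j) := by
        rintro ⟨k, l⟩ hkl
        rw [Finsupp.mem_support_iff] at hkl
        rw [Finset.mem_erase, Finsupp.mem_support_iff]
        change co b k l (t - s) ≠ 0 at hkl
        rw [map_sub, hco] at hkl
        refine ⟨fun h => hkl ?_, fun h => hkl ?_⟩
        · rw [if_pos (Or.inl h)]
          obtain ⟨rfl, rfl⟩ := Prod.mk.inj h
          rw [hone, sub_self]
        · change co b k l t = 0 at h
          rw [h, if_neg, sub_zero]
          rintro (h' | h') <;> obtain ⟨rfl, rfl⟩ := Prod.mk.inj h'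
          · rw [hone] at h; exact one_ne_zero h
          · rw [hs, hone] at h; exact one_ne_zero h
      have h2 := Finset.card_le_card this
      rw [Finset.card_erase_of_mem (Finsupp.mem_support_iff.2 hij)] at h2
      omega
    have hsymm : ∀ k l, co b k l (t - s) = co b l k (t - s) := by
      intro k l
      rw [map_sub, map_sub, hs k l, hco, hco]
      congr 1
      refine if_congr ?_ rfl rfl
      simp only [Prod.mk.injEq]
      tauto
    obtain ⟨hA, hB⟩ := ih (t - s) hsub hsymm
    have hsq : s ∈ sq V := by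
      rw [hs']
      split_ifs
      · exact Submodule.subset_span ⟨_, rfl⟩
      · exact sym_le_sq (Submodule.subset_span ⟨(_, _), rfl⟩)
    refine ⟨by simpa using add_mem hA hsq, fun hd => ?_⟩
    have hne : i ≠ j := fun h => by
      subst h
      rw [hd] at hone
      exact zero_ne_one hone
    have hsy : s ∈ sym V := by
      rw [hs', if_neg hne]
      exact Submodule.subset_span ⟨(_, _), rfl⟩
    have : t - s ∈ sym V := hB fun k => by
      rw [map_sub, hd, co_diag_of_mem_sym b hsy, sub_zero]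
    simpa using add_mem this hsy

lemma mem_sq_iff {t : V ⊗[ZMod 2] V} : t ∈ sq V ↔ ∀ i j, co b i j t = co b j i t :=
  ⟨fun h i j => co_symm_of_mem_sq b h i j, fun h => (mem_sq_of_symm b h).1⟩

lemma mem_sym_iff {t : V ⊗[ZMod 2] V} : t ∈ sym V ↔ t ∈ sq V ∧ ∀ i, co b i i t = 0 :=
  ⟨fun h => ⟨sym_le_sq h, co_diag_of_mem_sym b h⟩,
    fun h => (mem_sq_of_symm b (co_symm_of_mem_sq b h.1)).2 h.2⟩

/-- the quadratic lift of `x ∧ y` -/
def phi (x y : V) : V ⊗[ZMod 2] V := x ⊗ₜ x + x ⊗ₜ y + y ⊗ₜ y

lemma phi_sub_tmul_mem (x y : V) : phi x y - x ⊗ₜ y ∈ sq V := by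
  have h : phi x y - x ⊗ₜ y = x ⊗ₜ x + y ⊗ₜ y := by rw [phi]; abel
  rw [h]
  exact add_mem (Submodule.subset_span ⟨_, rfl⟩) (Submodule.subset_span ⟨_, rfl⟩)

lemma diag_minor : ∀ xi yi xa ya xb yb : ZMod 2, xa * yb + xb * ya = 1 →
    xi * xi + xi * yi + yi * yi =
      (xi * ya + xa * yi) + (xi * yb + xb * yi) + (xi * ya + xa * yi) * (xi * yb + xb * yi) := by
  decide

/-- off the decomposable zero, `phi x y` modulo `sym` only depends on `x ∧ y` -/
lemma phi_congr {x y x' y' : V} (hne : x ⊗ₜ[ZMod 2] y ∉ sq V)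
    (h : x' ⊗ₜ[ZMod 2] y' - x ⊗ₜ[ZMod 2] y ∈ sq V) (b : Module.Basis ι (ZMod 2) V) :
    phi x' y' - phi x y ∈ sym V := by
  rw [mem_sym_iff b]
  refine ⟨?_, fun i => ?_⟩
  · have : phi x' y' - phi x y =
        (phi x' y' - x' ⊗ₜ y') + (x' ⊗ₜ y' - x ⊗ₜ y) - (phi x y - x ⊗ₜ y) := by abel
    rw [this]
    exact sub_mem (add_mem (phi_sub_tmul_mem _ _) h) (phi_sub_tmul_mem _ _)
  have hm : ∀ k l, b.repr x' k * b.repr y' l + b.repr x' l * b.repr y' k =
      b.repr x k * b.repr y l + b.repr x l * b.repr y k := by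
    intro k l
    have := co_symm_of_mem_sq b h k l
    simp only [map_sub, co_tmul, CharTwo.sub_eq_add] at this
    exact swap4 _ _ _ _ this
  obtain ⟨p, q, hpq⟩ : ∃ p q, b.repr x p * b.repr y q + b.repr x q * b.repr y p = 1 := by
    rw [mem_sq_iff b] at hne
    push Not at hne
    obtain ⟨p, q, hpq⟩ := hne
    refine ⟨p, q, (z2 _).resolve_left fun h0 => hpq ?_⟩
    rw [co_tmul, co_tmul]
    rwa [CharTwo.add_eq_zero] at h0
  simp only [phi, map_sub, map_add, co_tmul]
  rw [diag_minor (b.repr x i) (b.repr y i) _ _ _ _ hpq,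
    diag_minor (b.repr x' i) (b.repr y' i) _ _ _ _ ((hm p q).trans hpq), hm, hm, sub_self]

lemma tprod_mem_sq {G : Type*} [Monoid G] (ρ : Representation (ZMod 2) G V) (g : G)
    {t : V ⊗[ZMod 2] V} (ht : t ∈ sq V) : ρ.tprod ρ g t ∈ sq V := by
  induction ht using Submodule.span_induction with
  | mem x hx =>
    obtain ⟨v, rfl⟩ := hx
    simp only [Representation.tprod_apply, TensorProduct.map_tmul]
    exact Submodule.subset_span ⟨_, rfl⟩
  | zero => simp
  | add x y _ _ hx hy => rw [map_add]; exact add_mem hx hy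
  | smul c x _ hx => rw [map_smul]; exact Submodule.smul_mem _ _ hx

lemma tprod_phi {G : Type*} [Monoid G] (ρ : Representation (ZMod 2) G V) (g : G) (x y : V) :
    ρ.tprod ρ g (phi x y) = phi (ρ g x) (ρ g y) := by
  simp [phi, Representation.tprod_apply]

/-- the tensors with vanishing diagonal give a splitting for a permutation basis -/
lemma splits_of_perm {G : Type*} [Group G] (ρ : Representation (ZMod 2) G V)
    (hb : ∀ g : G, ∀ i : ι, ∃ j : ι, ρ g (b i) = b j) :
    ∃ W : Submodule (ZMod 2) (V ⊗[ZMod 2] V),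
      (∀ g : G, ∀ w ∈ W, ρ.tprod ρ g w ∈ W) ∧ W ⊓ sq V = sym V ∧ W ⊔ sq V = ⊤ := by
  classical
  choose σ hσ using hb
  refine ⟨Submodule.span (ZMod 2)
    (Set.range fun p : {p : ι × ι // p.1 ≠ p.2} => b p.1.1 ⊗ₜ b p.1.2), ?_, ?_, ?_⟩
  · intro g w hw
    induction hw using Submodule.span_induction with
    | mem x hx =>
      obtain ⟨⟨⟨i, j⟩, hne⟩, rfl⟩ := hx
      simp only [Representation.tprod_apply, TensorProduct.map_tmul, hσ]
      refine Submodule.subset_span ⟨⟨(σ g i, σ g j), fun h => hne ?_⟩, rfl⟩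
      have h' := congrArg (ρ g⁻¹) ((hσ g i).trans ((congrArg b h).trans (hσ g j).symm))
      rw [← Module.End.mul_apply, ← Module.End.mul_apply, ← map_mul, inv_mul_cancel, map_one] at h'
      exact b.injective h'
    | zero => simp
    | add x y _ _ hx hy => rw [map_add]; exact add_mem hx hy
    | smul c x _ hx => rw [map_smul]; exact Submodule.smul_mem _ _ hx
  · refine le_antisymm (fun t ht => ?_) (le_inf ?_ sym_le_sq)
    · refine (mem_sym_iff b).2 ⟨ht.2, fun i => ?_⟩
      have h1 := ht.1
      clear ht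
      induction h1 using Submodule.span_induction with
      | mem x hx =>
        obtain ⟨⟨⟨k, l⟩, hne⟩, rfl⟩ := hx
        simp only [co_tmul, b.repr_self, Finsupp.single_apply]
        simp only at hne
        split_ifs <;> simp_all
      | zero => simp
      | add x y _ _ hx hy => simp [hx, hy]
      | smul c x _ hx => simp [hx]
    · intro t ht
      have hd := co_diag_of_mem_sym b ht
      rw [← (b.tensorProduct b).linearCombination_repr t, Finsupp.linearCombination_apply]
      refine Submodule.sum_mem _ fun p hp => ?_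
      simp only
      by_cases h : p.1 = p.2
      · obtain ⟨i, j⟩ := p
        simp only at h
        subst h
        rw [show (b.tensorProduct b).repr _ (i, i) = 0 from hd i, zero_smul]
        exact Submodule.zero_mem _
      · refine Submodule.smul_mem _ _ (Submodule.subset_span ⟨⟨p, h⟩, ?_⟩)
        rw [Module.Basis.tensorProduct_apply']
  · rw [eq_top_iff, ← (b.tensorProduct b).span_eq, Submodule.span_le]
    rintro _ ⟨⟨i, j⟩, rfl⟩
    rw [Module.Basis.tensorProduct_apply]
    by_cases h : i = j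
    · subst h
      exact Submodule.mem_sup_right (Submodule.subset_span ⟨_, rfl⟩)
    · exact Submodule.mem_sup_left (Submodule.subset_span ⟨⟨(i, j), h⟩, rfl⟩)

end Groth.Agent.SymSq25
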