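import Groth.Agent.Lib.SymSq25.Basic
import Mathlib.LinearAlgebra.Dimension.Constructions
import Mathlib.LinearAlgebra.FiniteDimensional.Lemmas

universe v w

open scoped TensorProduct

namespace Groth.Agent.SymSq25

variable {V : Type v} [AddCommGroup V] [Module (ZMod 2) V]

lemma decomp3 : ∀ a c d : ZMod 2, ∃ x y : Fin 3 → ZMod 2,
    x 0 * y 1 + x 1 * y 0 = a ∧ x 0 * y 2 + x 2 * y 0 = c ∧ x 1 * y 2 + x 2 * y 1 = d := by
  intro a c d
  rcases z2 a with rfl | rfl
  · exact ⟨![c, d, 0], ![0, 0, 1], by simp, by simp, by simp⟩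
  · refine ⟨![1, 0, d], ![0, 1, c], by simp, by simp, ?_⟩
    simp

/-- every class in `Λ²` of a three dimensional space is decomposable -/
lemma exists_tmul_sub_mem_three (b : Module.Basis (Fin 3) (ZMod 2) V) (t : V ⊗[ZMod 2] V) :
    ∃ x y : V, x ⊗ₜ[ZMod 2] y - t ∈ sq V := by
  obtain ⟨x, y, h01, h02, h12⟩ := decomp3 (co b 0 1 t + co b 1 0 t) (co b 0 2 t + co b 2 0 t)
    (co b 1 2 t + co b 2 1 t)
  refine ⟨b.equivFun.symm x, b.equivFun.symm y, (mem_sq_iff b).2 ?_⟩
  have hx : ∀ i, b.repr (b.equivFun.symm x) i = x i := fun i => by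
    rw [← b.equivFun_apply, LinearEquiv.apply_symm_apply]
  have hy : ∀ i, b.repr (b.equivFun.symm y) i = y i := fun i => by
    rw [← b.equivFun_apply, LinearEquiv.apply_symm_apply]
  have key : ∀ i j, x i * y j + x j * y i = co b i j t + co b j i t := by
    intro i j
    fin_cases i <;> fin_cases j <;>
      simp only [Fin.zero_eta, Fin.mk_one, Fin.reduceFinMk, CharTwo.add_self_eq_zero] <;>
      first
        | assumption
        | (rw [add_comm, h01, add_comm])
        | (rw [add_comm, h02, add_comm])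
        | (rw [add_comm, h12, add_comm])
  intro i j
  simp only [map_sub, co_tmul, hx, hy, CharTwo.sub_eq_add]
  exact swap4 _ _ _ _ (key i j)

lemma det_two : ∀ a c a' c' : ZMod 2, ¬ (a = 0 ∧ c = 0) → ¬ (a' = 0 ∧ c' = 0) →
    ¬ (a = a' ∧ c = c') → a * c' + c * a' = 1 := by decide

lemma splits_two {G : Type*} [Group G] (b : Module.Basis (Fin 2) (ZMod 2) V)
    (ρ : Representation (ZMod 2) G V) :
    ∃ W : Submodule (ZMod 2) (V ⊗[ZMod 2] V),
      (∀ g : G, ∀ w ∈ W, ρ.tprod ρ g w ∈ W) ∧ W ⊓ sq V = sym V ∧ W ⊔ sq V = ⊤ := by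
  set t := phi (b 0) (b 1) with ht
  have hne : b 0 ⊗ₜ[ZMod 2] b 1 ∉ sq V := fun h => by
    have := co_symm_of_mem_sq b h 0 1
    simp [co_tmul, b.repr_self, Finsupp.single_apply] at this
  have hinv : ∀ g : G, ρ.tprod ρ g t - t ∈ sym V := by
    intro g
    rw [ht, tprod_phi]
    refine phi_congr hne ((mem_sq_iff b).2 ?_) b
    have hρ : Function.Injective (ρ g) := fun p q hpq => by
      have := congrArg (ρ g⁻¹) hpq
      rwa [← Module.End.mul_apply, ← Module.End.mul_apply, ← map_mul, inv_mul_cancel, map_one] at this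
    have hdet := det_two (b.repr (ρ g (b 0)) 0) (b.repr (ρ g (b 0)) 1) (b.repr (ρ g (b 1)) 0)
      (b.repr (ρ g (b 1)) 1)
      (fun h => b.ne_zero 0 (hρ (show ρ g (b 0) = ρ g 0 by
        rw [(ρ g).map_zero]; exact b.ext_elem fun i => by fin_cases i <;> simp [h.1, h.2])))
      (fun h => b.ne_zero 1 (hρ (show ρ g (b 1) = ρ g 0 by
        rw [(ρ g).map_zero]; exact b.ext_elem fun i => by fin_cases i <;> simp [h.1, h.2])))
      (fun h => by
        have := b.injective (hρ (show ρ g (b 0) = ρ g (b 1) from b.ext_elem fun i => by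
          fin_cases i <;> simp [h.1, h.2]))
        exact absurd this (by decide))
    intro i j
    simp only [map_sub, co_tmul, b.repr_self, CharTwo.sub_eq_add]
    apply swap4
    fin_cases i <;> fin_cases j <;>
      simp [Finsupp.single_apply, CharTwo.add_self_eq_zero] <;>
      first
        | exact hdet
        | (rw [add_comm]; exact hdet)
  refine ⟨Submodule.span (ZMod 2) {t} ⊔ sym V, ?_, ?_, ?_⟩
  · intro g w hw
    obtain ⟨u, hu, s, hs, rfl⟩ := Submodule.mem_sup.1 hw
    obtain ⟨c, rfl⟩ := Submodule.mem_span_singleton.1 hu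
    rw [map_add, map_smul]
    refine add_mem (Submodule.smul_mem _ c ?_) (Submodule.mem_sup_right ?_)
    · have := add_mem (Submodule.mem_sup_right (hinv g))
        (Submodule.mem_sup_left (Submodule.mem_span_singleton_self t) :
          t ∈ Submodule.span (ZMod 2) {t} ⊔ sym V)
      simpa using this
    · clear hw
      induction hs using Submodule.span_induction with
      | mem x hx =>
        obtain ⟨⟨p, q⟩, rfl⟩ := hx
        simp only [Representation.tprod_apply, map_add, TensorProduct.map_tmul]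
        exact Submodule.subset_span ⟨(_, _), rfl⟩
      | zero => simp
      | add x y _ _ hx hy => rw [map_add]; exact add_mem hx hy
      | smul c x _ hx => rw [map_smul]; exact Submodule.smul_mem _ _ hx
  · refine le_antisymm ?_ (le_inf le_sup_right sym_le_sq)
    rintro w ⟨hw, hwsq⟩
    obtain ⟨u, hu, s, hs, rfl⟩ := Submodule.mem_sup.1 hw
    obtain ⟨c, rfl⟩ := Submodule.mem_span_singleton.1 hu
    rcases z2 c with rfl | rfl
    · simpa using hs
    · refine absurd ?_ hne
      have h1 : t ∈ sq V := by simpa using sub_mem hwsq (sym_le_sq hs)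
      simpa [ht] using sub_mem h1 (phi_sub_tmul_mem (b 0) (b 1))
  · rw [eq_top_iff, ← (b.tensorProduct b).span_eq, Submodule.span_le]
    rintro _ ⟨⟨i, j⟩, rfl⟩
    rw [Module.Basis.tensorProduct_apply]
    set T := Submodule.span (ZMod 2) {t} ⊔ sym V ⊔ sq V with hT
    have h01 : b 0 ⊗ₜ[ZMod 2] b 1 ∈ T := by
      have h1 : t ∈ T :=
        Submodule.mem_sup_left (Submodule.mem_sup_left (Submodule.mem_span_singleton_self t))
      simpa [ht] using sub_mem h1 (Submodule.mem_sup_right (phi_sub_tmul_mem (b 0) (b 1)) :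
        phi (b 0) (b 1) - b 0 ⊗ₜ b 1 ∈ T)
    have h10 : b 1 ⊗ₜ[ZMod 2] b 0 ∈ T := by
      simpa using sub_mem (Submodule.mem_sup_left (Submodule.mem_sup_right
        (Submodule.subset_span ⟨(b 0, b 1), rfl⟩)) : b 0 ⊗ₜ[ZMod 2] b 1 + b 1 ⊗ₜ b 0 ∈ T) h01
    show b i ⊗ₜ[ZMod 2] b j ∈ T
    fin_cases i <;> fin_cases j
    · exact Submodule.mem_sup_right (Submodule.subset_span ⟨_, rfl⟩)
    · exact h01
    · exact h10
    · exact Submodule.mem_sup_right (Submodule.subset_span ⟨_, rfl⟩)

/-- a linear involution over `ZMod 2` permutes a basis -/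
lemma exists_perm_basis [Module.Finite (ZMod 2) V] (s : V →ₗ[ZMod 2] V) (hs : ∀ v, s (s v) = v) :
    ∃ (ι : Type v) (b : Module.Basis ι (ZMod 2) V), ∀ i, ∃ j, s (b i) = b j := by
  classical
  let N : V →ₗ[ZMod 2] V := s + LinearMap.id
  have hR : LinearMap.range N ≤ LinearMap.ker N := by
    rintro _ ⟨v, rfl⟩
    have : N (N v) = (2 : ZMod 2) • N v := by
      simp only [N, LinearMap.add_apply, LinearMap.id_apply, map_add, hs, two_smul]
      abel
    rw [LinearMap.mem_ker, this, show (2 : ZMod 2) = 0 from rfl, zero_smul]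
  obtain ⟨C, hC⟩ := Submodule.exists_isCompl (LinearMap.ker N)
  let R := LinearMap.range N
  let R' : Submodule (ZMod 2) (LinearMap.ker N) := R.comap (LinearMap.ker N).subtype
  obtain ⟨F', hF⟩ := Submodule.exists_isCompl R'
  let bC := Module.Basis.ofVectorSpace (ZMod 2) C
  let bF := Module.Basis.ofVectorSpace (ZMod 2) F'
  let κ := Module.Basis.ofVectorSpaceIndex (ZMod 2) C
  let μ := Module.Basis.ofVectorSpaceIndex (ZMod 2) F'
  -- `N` maps `C` isomorphically onto the range
  let φ : (C × C) × F' →ₗ[ZMod 2] V :=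
    LinearMap.coprod (LinearMap.coprod C.subtype (s.comp C.subtype))
      ((LinearMap.ker N).subtype.comp F'.subtype)
  have hker : ∀ c : C, N (c : V) = 0 → c = 0 := fun c hc =>
    Subtype.ext (Submodule.disjoint_def.1 hC.disjoint _ hc c.2)
  have hNs : ∀ v, N v = s v + v := fun v => rfl
  have hfix : ∀ f : F', s ((f : LinearMap.ker N) : V) = ((f : LinearMap.ker N) : V) := by
    intro f
    have h := (LinearMap.mem_ker).1 (f : LinearMap.ker N).2
    rw [hNs, add_eq_zero_iff_eq_neg] at h
    rw [h, ZModModule.neg_eq_self]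
  have hinj : Function.Injective φ := by
    rw [injective_iff_map_eq_zero]
    rintro ⟨⟨c, d⟩, f⟩ h
    simp only [φ, LinearMap.coprod_apply, Submodule.coe_subtype, LinearMap.comp_apply] at h
    -- apply `N`
    have h1 : N (((c + d : C)) : V) = 0 := by
      have h2 := congrArg N h
      simp only [map_add, map_zero, LinearMap.mem_ker.1 (f : LinearMap.ker N).2, add_zero] at h2
      rw [Submodule.coe_add, map_add]
      convert h2 using 2
      simp only [hNs, hs]
      abel
    have hcd : c = d := by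
      have h3 := hker _ h1
      rwa [add_eq_zero_iff_eq_neg, ZModModule.neg_eq_self] at h3
    subst hcd
    have h4 : N (c : V) + ((f : LinearMap.ker N) : V) = 0 := by rw [hNs, add_comm (s _)]; exact h
    have hf : f = 0 := by
      have : (f : LinearMap.ker N) ∈ R' := by
        refine ⟨(c : V), ?_⟩
        rw [add_eq_zero_iff_eq_neg, ZModModule.neg_eq_self] at h4
        exact h4
      exact Subtype.ext (Submodule.disjoint_def.1 hF.disjoint _ this f.2)
    subst hf
    have hc : c = 0 := hker c (by simpa using h4)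
    simp [hc]
  have hsurj : Function.Surjective φ := by
    intro v
    obtain ⟨k, hk, c, hc, rfl⟩ := Submodule.mem_sup.1
      (hC.sup_eq_top.symm ▸ Submodule.mem_top : v ∈ LinearMap.ker N ⊔ C)
    obtain ⟨r, hr, f, hf, hrf⟩ := Submodule.mem_sup.1
      (hF.sup_eq_top.symm ▸ Submodule.mem_top : (⟨k, hk⟩ : LinearMap.ker N) ∈ R' ⊔ F')
    obtain ⟨w, hw⟩ := hr
    obtain ⟨k', hk', c', hc', rfl⟩ := Submodule.mem_sup.1
      (hC.sup_eq_top.symm ▸ Submodule.mem_top : w ∈ LinearMap.ker N ⊔ C)
    refine ⟨((⟨c, hc⟩ + ⟨c', hc'⟩, ⟨c', hc'⟩), ⟨f, hf⟩), ?_⟩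
    have hk2 : k = (r : V) + (f : V) := (congrArg Subtype.val hrf).symm
    rw [map_add, LinearMap.mem_ker.1 hk', zero_add, hNs] at hw
    simp only [φ, LinearMap.coprod_apply, Submodule.coe_subtype, LinearMap.comp_apply,
      Submodule.coe_add]
    rw [hk2]
    have hw' : s c' + c' = (r : V) := hw
    rw [← hw']
    abel
  let e := LinearEquiv.ofBijective φ ⟨hinj, hsurj⟩
  refine ⟨(κ ⊕ κ) ⊕ μ, ((bC.prod bC).prod bF).map e, fun i => ?_⟩
  simp only [Module.Basis.map_apply, e, LinearEquiv.ofBijective_apply]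
  rcases i with (i | i) | i
  · exact ⟨.inl (.inr i), by simp [φ, Module.Basis.prod_apply]⟩
  · exact ⟨.inl (.inl i), by simp [φ, Module.Basis.prod_apply, hs]⟩
  · exact ⟨.inr i, by simp [φ, Module.Basis.prod_apply, hfix]⟩

end Groth.Agent.SymSq25
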